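import Groth.Agent.LefX.K947.FibPara
import Groth.Agent.S2950
import Groth.Agent.Pi1.K158.RamMain
import Groth.Agent.Pi1A.PSPurityHolds

/-!
# Purity of the local rings of a flat morphism from purity of the fibres
-/

set_option autoImplicit false
universe u
open CategoryTheory CategoryTheory.Limits AlgebraicGeometry IsLocalRing

namespace K347.FibPure

open Groth.Agent Groth.Agent.Ega4dB.FiberDepth Groth.Agent.Ega4dB.FiberStalk

theorem purityHolds_of_isPurePair (A : Type u) [CommRing A] [IsLocalRing A]
    (h : SGA2.IsPurePair (Spec (CommRingCat.of A)) (FEt.puncturedSpec A)) : FEt.PurityHolds A := by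
  have := K158.RamPure.isEquivalence_of_isPurePair A h
  exact this.essSurj

/-- Flat local homomorphisms with pure closed fibre of depth `≥ 3`. -/
theorem purityHolds_stalk {X S : Scheme.{u}} (f : X ⟶ S) [Flat f] [IsLocallyNoetherian X]
    [IsLocallyNoetherian S] (x : X)
    (hd : (3 : ℕ∞) ≤ LocCoh.depth (CInt.fiberStalk f x) (CInt.fiberStalk f x))
    (hpf : FEt.PurityHolds (CInt.fiberStalk f x)) :
    FEt.PurityHolds (X.presheaf.stalk x) := by
  let : Algebra (S.presheaf.stalk (f x)) (X.presheaf.stalk x) := (f.stalkMap x).hom.toAlgebra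
  have h1 : Module.Flat (S.presheaf.stalk (f x)) (X.presheaf.stalk x) := Flat.stalkMap f x
  have h2 : IsLocalHom (algebraMap (S.presheaf.stalk (f x)) (X.presheaf.stalk x)) :=
    inferInstanceAs (IsLocalHom (f.stalkMap x).hom)
  have h3 : IsLocalRing (X.presheaf.stalk x ⧸
      (maximalIdeal (S.presheaf.stalk (f x))).map (algebraMap (S.presheaf.stalk (f x)) (X.presheaf.stalk x))) :=
    isLocalRing_quot f x
  let e : (X.presheaf.stalk x ⧸
      (maximalIdeal (S.presheaf.stalk (f x))).map (algebraMap (S.presheaf.stalk (f x)) (X.presheaf.stalk x))) ≃+*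
      CInt.fiberStalk f x := fiberStalkEquiv f x
  refine Groth.Agent.S2950.result (S.presheaf.stalk (f x)) (X.presheaf.stalk x) ?_ ?_
  · refine hd.trans (le_of_eq ?_)
    symm
    refine depth_eq_of_semilinear e.toRingHom e.surjective e.toAddEquiv ?_
    intro r n
    exact map_mul e r n
  · exact Groth.Agent.Pi1A.PSPurityHolds.purityHolds_of_ringEquiv e.symm hpf

end K347.FibPure
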