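import Groth.Prelude.Def_LefX
import Groth.Agent.S2947
import Groth.Agent.S0250
import Groth.Agent.Lef.K183.FEtOpen
import Groth.Agent.Pi1C.PurityQuot

/-!
# Finite étale covers and the effective Lefschetz condition

* `ff_of_lefCond`: `Lef(X, Y)` implies that restriction of finite étale covers to `Y` is fully faithful.
* `isEquivalence_of_leffCond`: `Leff(X, Y)` and purity of the local rings outside the
  neighbourhoods of `Y` imply that it is an equivalence.
-/

set_option autoImplicit false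
universe u

open CategoryTheory CategoryTheory.Limits AlgebraicGeometry

namespace K347.LeffEquiv

open Groth.Agent Groth.Agent.Pi1C.PurityQuot

/-- Restriction along `𝓘.subschemeι` from the one along the restriction of `𝓘` to the open `⊤`. -/
theorem exists_arrow {X : Scheme.{u}} (𝓘 : X.IdealSheafData) :
    ∃ (e : (𝓘.comap (⊤ : X.Opens).ι).subscheme ⟶ 𝓘.subscheme), IsIso e ∧
      e ≫ 𝓘.subschemeι = (𝓘.comap (⊤ : X.Opens).ι).subschemeι ≫ (⊤ : X.Opens).ι := by
  have hι : IsIso (⊤ : X.Opens).ι := inferInstanceAs (IsIso X.topIso.hom)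
  refine ⟨(𝓘.comapIso (⊤ : X.Opens).ι).hom ≫ pullback.snd _ _, inferInstance, ?_⟩
  rw [Category.assoc, ← pullback.condition, ← Category.assoc, Scheme.IdealSheafData.comapIso_hom_fst]

/-- The Lefschetz condition makes restriction of finite étale covers fully faithful. -/
theorem ff_of_lefCond {X : Scheme.{u}} [IsLocallyNoetherian X] (𝓘 : X.IdealSheafData)
    (h : Lef.LefCond X 𝓘) :
    (FEt.restrict 𝓘.subschemeι).Full ∧ (FEt.restrict 𝓘.subschemeι).Faithful := by
  have hι : IsIso (⊤ : X.Opens).ι := inferInstanceAs (IsIso X.topIso.hom)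
  obtain ⟨e, he, hc⟩ := exists_arrow 𝓘
  obtain ⟨h1, h2⟩ := S2947.result X 𝓘 h ⊤ (fun _ _ => trivial)
  have e1 : 𝓘.subschemeι = inv e ≫ (𝓘.comap (⊤ : X.Opens).ι).subschemeι ≫ (⊤ : X.Opens).ι := by
    rw [← hc, IsIso.inv_hom_id_assoc]
  let α : FEt.restrict 𝓘.subschemeι ≅
      (FEt.restrict (⊤ : X.Opens).ι ⋙ FEt.restrict (𝓘.comap (⊤ : X.Opens).ι).subschemeι) ⋙
        FEt.restrict (inv e) :=
    restrictCongr e1 ≪≫ restrictComp _ _ ≪≫ Functor.isoWhiskerRight (restrictComp _ _) _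
  exact ⟨Functor.Full.of_iso α.symm, Functor.Faithful.of_iso α.symm⟩

/-- Finite étale covers of `V(𝓘)` extend to `X` under `Leff` and purity. -/
theorem essSurj_of_leffCond {X : Scheme.{u}} [IsNoetherian X] (𝓘 : X.IdealSheafData)
    (h : LefX.LeffCond X 𝓘)
    (hp : ∀ U : X.Opens, (𝓘.support : Set X) ⊆ (U : Set X) → ∀ x : X, x ∉ U →
      FEt.PurityHolds (X.presheaf.stalk x)) :
    (FEt.restrict 𝓘.subschemeι).EssSurj where
  mem_essImage R := by
    obtain ⟨U, R', hU, hR'⟩ := K183.FEtOpen.exists_nhd_cover_of_leffCond 𝓘 h R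
    have hr : Set.range 𝓘.subschemeι ⊆ Set.range U.ι := by
      rw [Scheme.Opens.range_ι, 𝓘.range_subschemeι]
      exact hU
    have hS := S0250.result U (fun x hx => hp U hU x hx)
    let i : 𝓘.subscheme ⟶ (U : Scheme.{u}) := IsOpenImmersion.lift U.ι 𝓘.subschemeι hr
    have hi : i ≫ U.ι = 𝓘.subschemeι := IsOpenImmersion.lift_fac _ _ _
    obtain ⟨e⟩ := hR' i hi
    exact ⟨(FEt.restrict U.ι).objPreimage R',
      ⟨(restrictCongr hi.symm ≪≫ restrictComp i U.ι).app _ ≪≫
        (FEt.restrict i).mapIso ((FEt.restrict U.ι).objObjPreimageIso R') ≪≫ e⟩⟩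

/-- **Finite étale covers under `Leff` and purity.** -/
theorem isEquivalence_of_leffCond {X : Scheme.{u}} [IsNoetherian X] (𝓘 : X.IdealSheafData)
    (h : LefX.LeffCond X 𝓘)
    (hp : ∀ U : X.Opens, (𝓘.support : Set X) ⊆ (U : Set X) → ∀ x : X, x ∉ U →
      FEt.PurityHolds (X.presheaf.stalk x)) :
    (FEt.restrict 𝓘.subschemeι).IsEquivalence where
  full := (ff_of_lefCond 𝓘 h.1).1
  faithful := (ff_of_lefCond 𝓘 h.1).2
  essSurj := essSurj_of_leffCond 𝓘 h hp

end K347.LeffEquiv
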